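import Cfsg.Agent.H968.Imc.RankThreeFix
import Cfsg.Agent.H94.IMCPerm
import Cfsg.Agent.H870.IMFiTwentyThree

/-!
# The row `Fi₂₃` of S4526 (helper968)

2, 3, 11, 13, 17, 23: the rank 3 action on the 31671 transpositions, degrees 782 and 30888. 5: the centralizer
`5 × S₇`. 7: defect zero.
-/

set_option autoImplicit false
set_option maxRecDepth 100000

namespace Cfsg.Agent.H968.Imc

open Cfsg Cfsg.Agent.H33 Cfsg.Agent.H625.SylConst Cfsg.Agent.H870.IMFi23 Cfsg.Agent.H870.IMLocal
open Cfsg.Agent.LThreeFi23 Cfsg.Agent.H690.Spor.RankThree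
open Cfsg.Spor (Fi23)

universe u

theorem chk_fi23 : ∀ p ∈ [2, 3, 11, 13, 17, 23], chk 3510 28160 p 15 = true := by decide +kernel

theorem imc_five_fi23 : IMC 5 Fi23 := by
  have : Fact (Nat.Prime 5) := ⟨by norm_num⟩
  have hc := card_G
  obtain ⟨x, hx⟩ := exists_prime_orderOf_dvd_card' (G := Fi23) 5 (by rw [hc]; norm_num)
  obtain ⟨f, hf, -⟩ := exists_surj_elt hx
    (H838.Fi23.five_main (Subgroup.zpowers x) (by rw [Nat.card_zpowers, hx]))
  obtain ⟨θ, hθ⟩ := im_five_perm.of_surjective f hf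
  refine Cfsg.Agent.H94.IMCPerm.imc_of_cent x hx θ (k := 1) (by rw [pow_one]; exact hθ) ?_ (by rw [hc]; norm_num)
  by_contra h
  push Not at h
  have h2 : 5 ^ 3 ∣ Nat.card (Subgroup.centralizer ({x} : Set Fi23)) :=
    (Nat.pow_dvd_pow 5 h).trans (Nat.ordProj_dvd _ _)
  have h3 := h2.trans (Subgroup.card_subgroup_dvd_card _)
  rw [hc] at h3
  revert h3
  norm_num

theorem imc_seven_fi23 : IMC 7 Fi23 := by
  have : Fact (Nat.Prime 7) := ⟨by norm_num⟩
  have hc := card_G
  exact Cfsg.Agent.H794.Imc.imc_of_exact (by rw [hc]; norm_num) (by rw [hc]; norm_num) im_seven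

/-- The row `Fi₂₃` of S4526. -/
theorem imc_fi23 {S : Type u} [Group S] [Finite S] (h : Cfsg.Spor.IsoFi23 S) {p : ℕ} [hp : Fact p.Prime]
    (hd : p ∣ Nat.card S) : IMC p S := by
  obtain ⟨e⟩ := h
  refine IMC.of_equiv e ?_
  rw [Nat.card_congr e.toEquiv, card_G] at hd
  obtain ⟨R, hR⟩ := exists_r3
  have hpr := hp.out
  have h5 : p ∣ 2 ^ 18 * 3 ^ 13 * 5 ^ 2 * 7 * 11 * 13 * 17 * 23 := by
    norm_num
    exact hd
  have key : p ∈ [2, 3, 11, 13, 17, 23] ∨ p = 5 ∨ p = 7 := by
    have two {q : ℕ} (hq : q.Prime) {k : ℕ} (h : p ∣ q ^ k) : p = q :=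
      (Nat.prime_dvd_prime_iff_eq hpr hq).1 (hpr.dvd_of_dvd_pow h)
    have one {q : ℕ} (hq : q.Prime) (h : p ∣ q) : p = q := (Nat.prime_dvd_prime_iff_eq hpr hq).1 h
    rcases hpr.dvd_mul.1 h5 with h5 | h5
    · rcases hpr.dvd_mul.1 h5 with h5 | h5
      · rcases hpr.dvd_mul.1 h5 with h5 | h5
        · rcases hpr.dvd_mul.1 h5 with h5 | h5
          · rcases hpr.dvd_mul.1 h5 with h5 | h5
            · rcases hpr.dvd_mul.1 h5 with h5 | h5
              · rcases hpr.dvd_mul.1 h5 with h5 | h5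
                · rw [two (by norm_num) h5]; decide
                · rw [two (by norm_num) h5]; decide
              · rw [two (by norm_num) h5]; decide
            · rw [one (by norm_num) h5]; decide
          · rw [one (by norm_num) h5]; decide
        · rw [one (by norm_num) h5]; decide
      · rw [one (by norm_num) h5]; decide
    · rw [one (by norm_num) h5]; decide
  rcases key with h | rfl | rfl
  · exact imc_of_r3 hR 15 (chk_fi23 p h)
  · exact imc_five_fi23
  · exact imc_seven_fi23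

end Cfsg.Agent.H968.Imc
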